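import Groth.Prelude.Def_AnFib
import Groth.Agent.FlatB.AffSpaceSmooth
import Groth.Agent.Ega1.LocNoethNhd
import Groth.Agent.Desc.NormalSmooth
import Mathlib.RingTheory.Smooth.StandardSmoothOfFree
import Mathlib.RingTheory.Unramified.Field

/-!
# Good neighbourhoods: the induction on the dimension

`StepHyp k`: every rational point of a smooth affine integral variety of dimension `N + 1` has an
elementary fibration over neighbourhoods of the origin of `𝔸^N`, defined on the whole preimage.
`exists_good`: `StepHyp k` implies that every rational point of a smooth scheme over `k` has a good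
neighbourhood.
-/

set_option autoImplicit false
universe u

namespace Groth.Agent.An.H22.Assemble

open CategoryTheory AlgebraicGeometry

section General

theorem elem_of_iso {X' X S : Scheme.{u}} (e : X' ⟶ X) [IsIso e] (f : X ⟶ S)
    (h : _root_.An.IsElementaryFibration f) : _root_.An.IsElementaryFibration (e ≫ f) := by
  obtain ⟨Xb, Y, j, fb, i, hj, hoi, hci, hr, hd, hs, hp, hg, hf, het, hsur⟩ := h
  have hrange : Set.range (e ≫ j) = Set.range j := by
    have : Function.Surjective e := e.homeomorph.surjective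
    rw [Scheme.Hom.comp_base, TopCat.coe_comp, this.range_comp]
  refine ⟨Xb, Y, e ≫ j, fb, i, by rw [Category.assoc, hj], inferInstance, hci, ?_, ?_, hs, hp, hg,
    hf, het, hsur⟩
  · exact hrange.trans hr
  · intro s
    rw [show Set.range (e ≫ j).base = Set.range j.base from hrange]
    exact hd s

theorem good_of_iso {X' X S : Scheme.{u}} (e : X' ⟶ X) [IsIso e] (f : X ⟶ S)
    (h : _root_.An.IsGoodNeighbourhood f) : _root_.An.IsGoodNeighbourhood (e ≫ f) := by
  cases h with
  | zero => exact _root_.An.IsGoodNeighbourhood.zero _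
  | step f g hf hg =>
    rw [← Category.assoc]
    exact _root_.An.IsGoodNeighbourhood.step _ _ (elem_of_iso e f hf) hg

theorem good_image {X' X S : Scheme.{u}} (j : X' ⟶ X) [IsOpenImmersion j] (π : X ⟶ S)
    (U : X'.Opens) (h : _root_.An.IsGoodNeighbourhood (U.ι ≫ j ≫ π)) :
    _root_.An.IsGoodNeighbourhood ((j ''ᵁ U).ι ≫ π) := by
  rw [← Scheme.Hom.isoImage_inv_ι, Category.assoc, Category.assoc]
  exact good_of_iso _ _ h

end General

section Affine

variable (k : Type u) [Field k]

/-- The step: an elementary fibration on the preimage of neighbourhoods of the origin. -/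
def StepHyp : Prop :=
  ∀ (N : ℕ) (A : Type u) [CommRing A] [IsDomain A] [Algebra k A]
    [Algebra.IsStandardSmoothOfRelativeDimension (N + 1) k A] (x : A →ₐ[k] k),
    ∃ φ : MvPolynomial (Fin N) k →ₐ[k] A, (∀ i, x (φ (MvPolynomial.X i)) = 0) ∧
      ∃ V₁ : (Spec (CommRingCat.of (MvPolynomial (Fin N) k))).Opens,
        (∀ p : PrimeSpectrum (MvPolynomial (Fin N) k),
          (∀ i, MvPolynomial.X i ∈ p.asIdeal) → p ∈ V₁) ∧
        ∀ V ≤ V₁, (V : Set (Spec (CommRingCat.of (MvPolynomial (Fin N) k)))).Nonempty →
          _root_.An.IsElementaryFibration (Spec.map (CommRingCat.ofHom φ.toRingHom) ∣_ V)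

variable {k}

/-- The rational point given by `x`. -/
noncomputable def pt {A : Type u} [CommRing A] [Algebra k A] (x : A →ₐ[k] k) :
    PrimeSpectrum A := ⟨RingHom.ker x, RingHom.ker_isPrime _⟩

/-- `x` has a good neighbourhood. -/
def Good {A : Type u} [CommRing A] [Algebra k A] (x : A →ₐ[k] k) : Prop :=
  ∃ U : (Spec (CommRingCat.of A)).Opens, pt x ∈ U ∧
    _root_.An.IsGoodNeighbourhood (U.ι ≫ Spec.map (CommRingCat.ofHom (algebraMap k A)))

theorem comap_pt {A B : Type u} [CommRing A] [Algebra k A] [CommRing B] [Algebra k B]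
    (ψ : A →ₐ[k] B) (y : B →ₐ[k] k) :
    PrimeSpectrum.comap ψ.toRingHom (pt y) = pt (y.comp ψ) := by
  apply PrimeSpectrum.ext
  rfl

theorem exists_image {A B : Type u} [CommRing A] [Algebra k A] [CommRing B] [Algebra k B]
    (ψ : A →ₐ[k] B) [IsOpenImmersion (Spec.map (CommRingCat.ofHom ψ.toRingHom))]
    (y : B →ₐ[k] k) (h : Good y) :
    ∃ V : (Spec (CommRingCat.of A)).Opens, pt (y.comp ψ) ∈ V ∧
      V ≤ (Spec.map (CommRingCat.ofHom ψ.toRingHom)).opensRange ∧
      _root_.An.IsGoodNeighbourhood (V.ι ≫ Spec.map (CommRingCat.ofHom (algebraMap k A))) := by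
  obtain ⟨U, hyU, hU⟩ := h
  refine ⟨Spec.map (CommRingCat.ofHom ψ.toRingHom) ''ᵁ U, ?_, ?_, ?_⟩
  · rw [← comap_pt]
    exact ⟨pt y, hyU, rfl⟩
  · rintro _ ⟨z, -, rfl⟩
    exact ⟨z, rfl⟩
  · refine good_image _ _ _ ?_
    rw [← Spec.map_comp, ← CommRingCat.ofHom_comp]
    have : ψ.toRingHom.comp (algebraMap k A) = algebraMap k B := ψ.comp_algebraMap
    rw [this]
    exact hU

/-- Extension of a point to a basic open neighbourhood. -/
theorem exists_lift {A : Type u} [CommRing A] [Algebra k A] (x : A →ₐ[k] k) (f : A)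
    (hf : x f ≠ 0) : ∃ y : Localization.Away f →ₐ[k] k,
      y.comp (Algebra.algHom k A (Localization.Away f)) = x := by
  refine ⟨IsLocalization.liftAlgHom (M := Submonoid.powers f) (f := x) ?_, ?_⟩
  · rintro ⟨_, n, rfl⟩
    exact (IsUnit.mk0 _ (by rw [map_pow]; exact pow_ne_zero _ hf))
  · ext a
    exact IsLocalization.lift_eq _ a

instance isOpenImmersion_away {A : Type u} [CommRing A] [Algebra k A] (f : A) :
    IsOpenImmersion (Spec.map (CommRingCat.ofHom
      (Algebra.algHom k A (Localization.Away f)).toRingHom)) :=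
  IsOpenImmersion.of_isLocalization (R := A) (S := Localization.Away f) f

theorem good_of_away {A : Type u} [CommRing A] [Algebra k A] (x : A →ₐ[k] k) (f : A)
    (hf : x f ≠ 0)
    (h : ∀ y : Localization.Away f →ₐ[k] k, y.comp (Algebra.algHom k A (Localization.Away f)) = x →
      Good y) : Good x := by
  obtain ⟨y, hy⟩ := exists_lift x f hf
  obtain ⟨V, hxV, -, hV⟩ := exists_image (Algebra.algHom k A (Localization.Away f)) y (h y hy)
  rw [hy] at hxV
  exact ⟨V, hxV, hV⟩

theorem exists_relDim {A : Type u} [CommRing A] [Algebra k A] [Algebra.IsStandardSmooth k A] :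
    ∃ N, Algebra.IsStandardSmoothOfRelativeDimension N k A := by
  obtain ⟨ι, σ, h1, h2, ⟨P⟩⟩ := ‹Algebra.IsStandardSmooth k A›.out
  exact ⟨_, P.isStandardSmoothOfRelativeDimension rfl⟩

/-- A smooth domain over a field is integrally closed. -/
theorem isIntegrallyClosed_of_smooth (A : Type u) [CommRing A] [IsDomain A] [Algebra k A]
    [Algebra.Smooth k A] : IsIntegrallyClosed A := by
  have hk : ∀ (p : Ideal k) [p.IsPrime], IsDomain (Localization.AtPrime p) ∧
      IsIntegrallyClosed (Localization.AtPrime p) := fun p hp =>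
    ⟨IsLocalization.isDomain_localization p.primeCompl_le_nonZeroDivisors,
      isIntegrallyClosed_of_isLocalization _ p.primeCompl p.primeCompl_le_nonZeroDivisors⟩
  refine IsIntegrallyClosed.of_localization_maximal fun p _ hp => ?_
  have hp' : p.IsPrime := hp.isPrime
  exact (Desc.NormalSmooth.normalAt_of_isSmoothAt (A := k) p (hk _)).2

theorem good_of_domain [IsAlgClosed k] (H : StepHyp k) (N : ℕ)
    (ih : ∀ (M : ℕ) (_ : M < N) (A : Type u) [CommRing A] [Algebra k A]
      [Algebra.IsStandardSmoothOfRelativeDimension M k A]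
      (x : A →ₐ[k] k), Good x)
    (A : Type u) [CommRing A] [IsDomain A] [Algebra k A]
    [Algebra.IsStandardSmoothOfRelativeDimension N k A] (x : A →ₐ[k] k) : Good x := by
  obtain _ | N := N
  · have het : Algebra.Etale k A := inferInstance
    have hfin : Module.Finite k A := Algebra.FormallyUnramified.finite_of_free k A
    have hbij : Function.Bijective (algebraMap k A) := IsAlgClosed.algebraMap_bijective_of_isIntegral
    have hiso : IsIso (CommRingCat.ofHom (algebraMap k A)) :=
      (ConcreteCategory.isIso_iff_bijective _).2 hbij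
    have : IsIso (Spec.map (CommRingCat.ofHom (algebraMap k A))) := inferInstance
    have h3 : IsIso (⊤ : (Spec (CommRingCat.of A)).Opens).ι :=
      (Scheme.topIso (Spec (CommRingCat.of A))).isIso_hom
    have h2 : IsIso ((⊤ : (Spec (CommRingCat.of A)).Opens).ι ≫
      Spec.map (CommRingCat.ofHom (algebraMap k A))) := inferInstance
    exact ⟨⊤, trivial, _root_.An.IsGoodNeighbourhood.zero _⟩
  · obtain ⟨φ, hφ, V₁, hV₁, hV⟩ := H N A x
    let P := MvPolynomial (Fin N) k
    let o : P →ₐ[k] k := MvPolynomial.aeval 0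
    have ho : x.comp φ = o := by
      ext i
      rw [AlgHom.comp_apply, hφ, MvPolynomial.aeval_X]
      rfl
    have hoV : pt o ∈ V₁ := by
      refine hV₁ _ fun i => ?_
      change o (MvPolynomial.X i) = 0
      rw [MvPolynomial.aeval_X]
      rfl
    obtain ⟨_, ⟨_, ⟨g, rfl⟩, rfl⟩, hog, hgV⟩ :=
      (PrimeSpectrum.isBasis_basic_opens (R := P)).exists_subset_of_mem_open hoV V₁.isOpen
    have hog' : o g ≠ 0 := hog
    obtain ⟨y, hy⟩ := exists_lift o g hog'
    have h1 : Algebra.IsStandardSmoothOfRelativeDimension N k P :=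
      FlatB.AffSpaceSmooth.isStandardSmoothOfRelativeDimension k N
    have h2 : Algebra.IsStandardSmoothOfRelativeDimension 0 P (Localization.Away g) :=
      Algebra.IsStandardSmoothOfRelativeDimension.localization_away g
    have h3 : Algebra.IsStandardSmoothOfRelativeDimension N k (Localization.Away g) := by
      have := Algebra.IsStandardSmoothOfRelativeDimension.trans N 0 k P (Localization.Away g)
      rwa [zero_add] at this
    have hgood := ih N (Nat.lt_succ_self N) (Localization.Away g) y
    obtain ⟨V, hyV, hVr, hVg⟩ := exists_image (Algebra.algHom k P (Localization.Away g)) y hgood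
    rw [hy] at hyV
    have hVV₁ : V ≤ V₁ := by
      refine hVr.trans ?_
      rintro _ ⟨z, rfl⟩
      apply hgV
      change Spec.map (CommRingCat.ofHom (algebraMap P (Localization.Away g))) z ∈ _
      have : Set.range (PrimeSpectrum.comap (algebraMap P (Localization.Away g))) =
          PrimeSpectrum.basicOpen g := PrimeSpectrum.localization_away_comap_range _ g
      rw [← this]
      exact ⟨z, rfl⟩
    have hel := hV V hVV₁ ⟨_, hyV⟩
    refine ⟨Spec.map (CommRingCat.ofHom φ.toRingHom) ⁻¹ᵁ V, ?_, ?_⟩
    · change PrimeSpectrum.comap φ.toRingHom (pt x) ∈ V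
      rw [comap_pt, ho]
      exact hyV
    · have h4 : CommRingCat.ofHom (algebraMap k A) =
          CommRingCat.ofHom (algebraMap k P) ≫ CommRingCat.ofHom φ.toRingHom := by
        rw [← CommRingCat.ofHom_comp]
        congr 1
        exact φ.comp_algebraMap.symm
      rw [h4, Spec.map_comp, ← Category.assoc, ← morphismRestrict_ι, Category.assoc]
      exact _root_.An.IsGoodNeighbourhood.step _ _ hel hVg

theorem good_of_standard [IsAlgClosed k] (H : StepHyp k) (N : ℕ) :
    ∀ (A : Type u) [CommRing A] [Algebra k A]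
      [Algebra.IsStandardSmoothOfRelativeDimension N k A] (x : A →ₐ[k] k), Good x := by
  induction N using Nat.strong_induction_on with
  | _ N ih =>
    intro A _ _ _ x
    have hss : Algebra.IsStandardSmooth k A :=
      Algebra.IsStandardSmoothOfRelativeDimension.isStandardSmooth N
    have hN : IsNoetherianRing A := Algebra.FiniteType.isNoetherianRing k A
    let m := RingHom.ker x
    have hm : m.IsPrime := RingHom.ker_isPrime _
    have hk : ∀ (p : Ideal k) [p.IsPrime], IsDomain (Localization.AtPrime p) ∧
        IsIntegrallyClosed (Localization.AtPrime p) := fun p hp =>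
      ⟨IsLocalization.isDomain_localization p.primeCompl_le_nonZeroDivisors,
        isIntegrallyClosed_of_isLocalization _ p.primeCompl p.primeCompl_le_nonZeroDivisors⟩
    have hdom : IsDomain (Localization.AtPrime m) :=
      (Desc.NormalSmooth.normalAt_of_isSmoothAt (A := k) m (hk _)).1
    obtain ⟨f, hf, hf'⟩ := Ega1.LocNoethNhd.exists_isDomain_away m (Localization.AtPrime m)
    refine good_of_away x f hf fun y hy => ?_
    have := hf' (Localization.Away f)
    have h2 : Algebra.IsStandardSmoothOfRelativeDimension 0 A (Localization.Away f) :=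
      Algebra.IsStandardSmoothOfRelativeDimension.localization_away f
    have h3 : Algebra.IsStandardSmoothOfRelativeDimension N k (Localization.Away f) := by
      have := Algebra.IsStandardSmoothOfRelativeDimension.trans N 0 k A (Localization.Away f)
      rwa [zero_add] at this
    exact good_of_domain H N (fun M hM A _ _ _ x => ih M hM A x) (Localization.Away f) y

theorem good_of_smooth [IsAlgClosed k] (H : StepHyp k) (A : Type u) [CommRing A] [Algebra k A]
    [Algebra.Smooth k A] (x : A →ₐ[k] k) : Good x := by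
  let m := RingHom.ker x
  have hm : m.IsPrime := RingHom.ker_isPrime _
  obtain ⟨f, hf, hf'⟩ := Algebra.IsSmoothAt.exists_notMem_isStandardSmooth k m
  refine good_of_away x f hf fun y hy => ?_
  obtain ⟨N, hN⟩ := exists_relDim (k := k) (A := Localization.Away f)
  exact good_of_standard H N _ y

end Affine

/-- **Existence of good neighbourhoods**, from the step. -/
theorem exists_good (k : Type u) [Field k] [IsAlgClosed k] (H : StepHyp k) (X : Scheme.{u})
    (π : X ⟶ Spec (CommRingCat.of k)) [Smooth π]
    (x : Spec (CommRingCat.of k) ⟶ X) (hx : x ≫ π = 𝟙 _) :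
    ∃ U : X.Opens, Set.range x.base ⊆ (U : Set ↥X) ∧
      _root_.An.IsGoodNeighbourhood (U.ι ≫ π) := by
  let p₀ : Spec (CommRingCat.of k) := IsLocalRing.closedPoint k
  obtain ⟨_, ⟨V, hV, rfl⟩, hxV, -⟩ :=
    X.isBasis_affineOpens.exists_subset_of_mem_open (Set.mem_univ (x p₀)) isOpen_univ
  let j := hV.fromSpec
  obtain ⟨ψ, hψ⟩ := Spec.map_surjective (j ≫ π)
  have hr : Set.range x ⊆ Set.range j := by
    rintro _ ⟨q, rfl⟩
    have : q = p₀ := Subsingleton.elim _ _
    rw [this, IsAffineOpen.range_fromSpec]
    exact hxV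
  let x' := IsOpenImmersion.lift j x hr
  have hx' : x' ≫ j = x := IsOpenImmersion.lift_fac _ _ _
  obtain ⟨σ, hσ⟩ := Spec.map_surjective x'
  have hψσ : ψ ≫ σ = 𝟙 _ := by
    apply Spec.map_injective
    rw [Spec.map_comp, hσ, hψ, ← Category.assoc, hx', hx, Spec.map_id]
  let _ : Algebra k Γ(X, V) := ψ.hom.toAlgebra
  have hsm : Algebra.Smooth k Γ(X, V) := by
    have h1 : Smooth (Spec.map ψ) := by rw [hψ]; infer_instance
    rw [HasRingHomProperty.Spec_iff (P := @Smooth)] at h1
    exact h1
  let y : Γ(X, V) →ₐ[k] k := { σ.hom with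
    commutes' := fun r => by
      have := congrArg (fun f => f.hom r) hψσ
      exact this }
  obtain ⟨U, hyU, hU⟩ := good_of_smooth H Γ(X, V) y
  refine ⟨j ''ᵁ U, ?_, ?_⟩
  · rintro _ ⟨q, rfl⟩
    refine ⟨pt y, hyU, ?_⟩
    have hq : Spec.map σ q = pt y := by
      change PrimeSpectrum.comap σ.hom q = pt y
      apply PrimeSpectrum.ext
      have hq0 : q.asIdeal = ⊥ := Ideal.eq_bot_of_prime q.asIdeal
      change q.asIdeal.comap σ.hom = _
      rw [hq0]
      rfl
    change j (pt y) = x q
    rw [← hq, hσ, ← hx']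
    rfl
  · refine good_image j π U ?_
    rw [← hψ]
    exact hU

end Groth.Agent.An.H22.Assemble
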