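import Groth.Agent.Sga4h.CurveHat410
import Groth.Agent.Flat2B.SmoothGeom
import Groth.Agent.Ega4dA.SmoothStalk
import Groth.Agent.Ega1.LocNoethNhd
import Groth.Agent.S0388
import Groth.Agent.S3701

/-!
# Fibres of proper smooth families of curves with a section

* `geometricallyConnected_of_section`: a proper smooth morphism with connected source and a section is
  geometrically connected (Stein factorization).
* `fibre`: then, in relative dimension one, the geometric fibres are irreducible of dimension one.
* `dense_compl`: the complement of a closed subscheme finite over the base is dense in every fibre of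
  a morphism smooth of relative dimension one.
-/

set_option autoImplicit false
universe u

open CategoryTheory CategoryTheory.Limits AlgebraicGeometry TopologicalSpace

namespace Groth.Agent.An.H22.Fibres

variable {X S : Scheme.{u}} (f : X ⟶ S)

theorem geometricallyConnected_of_section [IsProper f] [Smooth f] [ConnectedSpace X]
    (σ : S ⟶ X) (hσ : σ ≫ f = 𝟙 S) : GeometricallyConnected f := by
  obtain ⟨hfin, het⟩ := S3701.result f fun Ω _ _ s => by
    have : Smooth (pullback.snd f s) := inferInstance
    exact Flat2B.SmoothGeom.isReduced_of_smooth (pullback.snd f s)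
  obtain ⟨hgc, -⟩ := S0388.result f
  have hhq : f.toNormalization ≫ f.fromNormalization = f := f.toNormalization_fromNormalization
  have hcn : ConnectedSpace f.normalization :=
    f.toNormalization.surjective.connectedSpace f.toNormalization.continuous
  let τ : S ⟶ f.normalization := σ ≫ f.toNormalization
  have hτ : τ ≫ f.fromNormalization = 𝟙 S := by rw [Category.assoc, hhq, hσ]
  have h1 : IsOpenImmersion τ := by
    have h1 : Etale (τ ≫ f.fromNormalization) := by rw [hτ]; infer_instance
    have h2 : Etale τ := Etale.of_comp τ f.fromNormalization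
    have h3 : Mono τ := by
      have : Mono (τ ≫ f.fromNormalization) := by rw [hτ]; infer_instance
      exact mono_of_mono τ f.fromNormalization
    exact IsOpenImmersion.of_flat_of_mono τ
  have h2 : IsClosedImmersion τ := by
    have : IsClosedImmersion (τ ≫ f.fromNormalization) := by rw [hτ]; infer_instance
    exact IsClosedImmersion.of_comp τ f.fromNormalization
  have hX : Nonempty X := inferInstance
  have h3 : Surjective τ := by
    have hclopen : IsClopen (Set.range τ) :=
      ⟨τ.isClosedEmbedding.isClosed_range, τ.isOpenEmbedding.isOpen_range⟩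
    have hne : (Set.range τ).Nonempty := ⟨_, f (Classical.arbitrary X), rfl⟩
    exact ⟨Set.range_eq_univ.1 (hclopen.eq_univ hne)⟩
  have h4 : IsIso τ := (isIso_iff_isOpenImmersion_and_surjective τ).2 ⟨h1, h3⟩
  have h5 : IsIso f.fromNormalization := by
    have : f.fromNormalization = inv τ := by
      rw [← cancel_epi τ, hτ, IsIso.hom_inv_id]
    rw [this]
    infer_instance
  have h6 : GeometricallyConnected (f.toNormalization ≫ f.fromNormalization) :=
    (MorphismProperty.cancel_right_of_respectsIso @GeometricallyConnected _ _).2 hgc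
  rwa [hhq] at h6

/-- The geometric fibres are irreducible of dimension one. -/
theorem fibre [QuasiCompact f] [SmoothOfRelativeDimension 1 f] [GeometricallyConnected f] (Ω : Type u)
    [Field Ω] [IsAlgClosed Ω] (s : Spec (CommRingCat.of Ω) ⟶ S) :
    IrreducibleSpace ↥(pullback f s) ∧ topologicalKrullDim ↥(pullback f s) = 1 := by
  have h1 : SmoothOfRelativeDimension 1 (pullback.snd f s) :=
    (smoothOfRelativeDimension_isStableUnderBaseChange 1).of_isPullback
      (IsPullback.of_hasPullback f s) ‹_›
  have h2 : Smooth (pullback.snd f s) := SmoothOfRelativeDimension.smooth 1 _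
  have h3 : ConnectedSpace ↥(pullback f s) :=
    GeometricallyConnected.connectedSpace_of_subsingleton (f := pullback.snd f s)
  have h4 : IsLocallyNoetherian (pullback f s) :=
    LocallyOfFiniteType.isLocallyNoetherian (pullback.snd f s)
  have h5 : IsIntegral (pullback f s) := by
    rw [Ega1.GenPts.isIntegral_iff]
    exact ⟨h3, fun x => (Sga4B.CurveComp.isNormalScheme_of_smooth (pullback.snd f s) x).1⟩
  refine ⟨inferInstance, ?_⟩
  exact_mod_cast Sga4h.CurveHat410.topologicalKrullDim_eq (pullback.snd f s) 1

/-- Specializations in a discrete set are trivial. -/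
theorem eq_of_specializes_of_isDiscrete {T : Type*} [TopologicalSpace T] {Z : Set T}
    (hZ : IsDiscrete Z) {y w : T} (hy : y ∈ Z) (hw : w ∈ Z) (h : y ⤳ w) : y = w := by
  have : DiscreteTopology Z := hZ.to_subtype
  have h1 : (⟨y, hy⟩ : Z) ⤳ ⟨w, hw⟩ := (subtype_specializes_iff _ _).2 h
  exact congrArg Subtype.val h1.eq

/-- A nonempty scheme smooth of relative dimension one over a field has more than one point in each
open subset. -/
theorem exists_generization {κ : Type u} [Field κ] {F : Scheme.{u}} (g : F ⟶ Spec (CommRingCat.of κ))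
    [SmoothOfRelativeDimension 1 g] (x : F) : ∃ η : F, η ⤳ x ∧ ¬ IsClosed ({η} : Set F) := by
  have hsm : Smooth g := SmoothOfRelativeDimension.smooth 1 _
  have hN : IsLocallyNoetherian F := LocallyOfFiniteType.isLocallyNoetherian g
  have hκ : Pi1.IsNormalScheme (Spec (CommRingCat.of κ)) := by
    intro z
    have hz : z.asIdeal.IsPrime := z.isPrime
    let _ : Algebra κ ((Spec (CommRingCat.of κ)).presheaf.stalk z) := StructureSheaf.stalkAlgebra κ z
    have h1 : IsLocalization.AtPrime ((Spec (CommRingCat.of κ)).presheaf.stalk z) z.asIdeal :=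
      StructureSheaf.IsLocalization.to_stalk κ z
    have h2 : IsDomain ((Spec (CommRingCat.of κ)).presheaf.stalk z) :=
      IsLocalization.isDomain_of_atPrime _ z.asIdeal
    exact ⟨h2, isIntegrallyClosed_of_isLocalization _ z.asIdeal.primeCompl
      z.asIdeal.primeCompl_le_nonZeroDivisors⟩
  have hd : IsDomain (F.presheaf.stalk x) := (Ega4dA.SmoothStalk.stalk_of_smooth hκ g x).1
  obtain ⟨U, hxU, hU, hUd⟩ := Ega1.LocNoethNhd.exists_domain_nhd x
  have hUi : IsIntegral (U : Scheme.{u}) := Ega1.LocNoethNhd.isIntegral_of_isAffineOpen F hU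
  have h1 : SmoothOfRelativeDimension 1 (U.ι ≫ g) := by
    have : SmoothOfRelativeDimension (0 + 1) (U.ι ≫ g) := inferInstance
    rwa [zero_add] at this
  have hdim : topologicalKrullDim (U : Scheme.{u}) = (1 : ℕ) :=
    Sga4h.CurveHat410.topologicalKrullDim_eq (U.ι ≫ g) 1
  let η : (U : Scheme.{u}) := genericPoint U
  refine ⟨U.ι η, ?_, fun hcl => ?_⟩
  · have : η ⤳ ⟨x, hxU⟩ := genericPoint_specializes _
    exact this.map U.ι.continuous
  · have hcl' : IsClosed ({η} : Set U) := by
      have : ({η} : Set U) = U.ι ⁻¹' {U.ι η} := by
        ext z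
        simp only [Set.mem_singleton_iff, Set.mem_preimage]
        exact ⟨fun h => by rw [h], fun h => U.ι.isOpenEmbedding.injective h⟩
      rw [this]
      exact hcl.preimage U.ι.continuous
    have hall : ∀ z : U, z = η := by
      intro z
      have h2 : η ⤳ z := genericPoint_specializes _
      have h3 : z ∈ closure ({η} : Set U) := h2.mem_closure
      rw [hcl'.closure_eq] at h3
      exact h3
    have : Subsingleton U := ⟨fun a b => (hall a).trans (hall b).symm⟩
    have : Subsingleton (TopologicalSpace.IrreducibleCloseds U) := by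
      refine ⟨fun A B => ?_⟩
      apply TopologicalSpace.IrreducibleCloseds.ext
      have hA : (A : Set U) = Set.univ := by
        obtain ⟨a, ha⟩ := A.isIrreducible.nonempty
        ext z
        simp only [Set.mem_univ, iff_true]
        rwa [Subsingleton.elim z a]
      have hB : (B : Set U) = Set.univ := by
        obtain ⟨a, ha⟩ := B.isIrreducible.nonempty
        ext z
        simp only [Set.mem_univ, iff_true]
        rwa [Subsingleton.elim z a]
      rw [hA, hB]
    have h0 : topologicalKrullDim (U : Scheme.{u}) ≤ 0 := Order.krullDim_nonpos_of_subsingleton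
    rw [hdim] at h0
    exact absurd h0 (by norm_num)

/-- The complement of a closed subscheme, quasi-finite over the base, is dense in each fibre. -/
theorem dense_compl [SmoothOfRelativeDimension 1 f] {Y : Scheme.{u}} (i : Y ⟶ X)
    [IsClosedImmersion i] [LocallyQuasiFinite (i ≫ f)] (s : S) :
    f.base ⁻¹' {s} ⊆ closure ((Set.range i.base)ᶜ ∩ f.base ⁻¹' {s}) := by
  intro x hx
  have hx' : x ∈ Set.range (f.fiberι s) := by rw [Scheme.Hom.range_fiberι]; exact hx
  obtain ⟨x₀, rfl⟩ := hx'
  have h1 : SmoothOfRelativeDimension 1 (f.fiberToSpecResidueField s) :=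
    (smoothOfRelativeDimension_isStableUnderBaseChange 1).of_isPullback
      (IsPullback.of_hasPullback f (S.fromSpecResidueField s)) ‹_›
  obtain ⟨η, hη, hcl⟩ := @exists_generization (S.residueField s) _ (f.fiber s)
    (f.fiberToSpecResidueField s) h1 x₀
  have hfib : ∀ z : f.fiber s, f.fiberι s z ∈ f ⁻¹' {s} := fun z => by
    rw [← Scheme.Hom.range_fiberι]; exact ⟨z, rfl⟩
  have hη' : f.fiberι s η ∉ Set.range i := by
    rintro ⟨y, hy⟩
    apply hcl
    have hc : closure {η} = ({η} : Set (f.fiber s)) := by
      refine subset_antisymm (fun z hz => ?_) subset_closure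
      have hηz : η ⤳ z := specializes_iff_mem_closure.2 hz
      have h2 : f.fiberι s η ⤳ f.fiberι s z := hηz.map (f.fiberι s).continuous
      rw [← hy] at h2
      have h3 : f.fiberι s z ∈ Set.range i :=
        h2.mem_closed i.isClosedEmbedding.isClosed_range ⟨y, rfl⟩
      obtain ⟨w, hw⟩ := h3
      rw [← hw] at h2
      have h4 : y ⤳ w := i.isClosedEmbedding.isInducing.specializes_iff.1 h2
      have hyw : y = w := by
        refine eq_of_specializes_of_isDiscrete ((i ≫ f).isDiscrete_preimage_singleton s) ?_ ?_ h4
        · change (i ≫ f) y = s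
          rw [Scheme.Hom.comp_apply, hy]
          exact hfib η
        · change (i ≫ f) w = s
          rw [Scheme.Hom.comp_apply, hw]
          exact hfib z
      apply (f.fiberι s).isEmbedding.injective
      rw [← hw, ← hy, hyw]
    rw [← hc]
    exact isClosed_closure
  have h5 : f.fiberι s η ⤳ f.fiberι s x₀ := hη.map (f.fiberι s).continuous
  have h6 : f.fiberι s η ∈ (Set.range i.base)ᶜ ∩ f.base ⁻¹' {s} := ⟨hη', hfib η⟩
  exact closure_mono (Set.singleton_subset_iff.2 h6) h5.mem_closure

end Groth.Agent.An.H22.Fibres
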