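import Groth.Agent.An.H22.NormFilt

/-!
# Normal projective compactification of a normal affine variety, in charts

For a normal affine variety `Spec A` over a field `k`, with a rational point `x`, there is a family
`f 0 = 1, f 1, …, f M` of elements of `A`, generating `A`, with `f i` vanishing at `x` for `i ≠ 0`, such
that for each `i` the chart algebra `Ch f i = k[f m / f i | m] ⊆ K = Frac A` is integrally closed: the
closure of `Spec A` in `ℙ^M` is normal.
-/

set_option autoImplicit false
universe u

namespace Groth.Agent.An.H22.NormFam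

open NormFilt

section Ch

variable {k : Type u} {K : Type u} [Field k] [Field K] [Algebra k K]

/-- The algebra generated by `F / f`. -/
noncomputable def ChF (V : Submodule k K) (f : K) : Subalgebra k K :=
  Algebra.adjoin k ((fun a => a / f) '' (V : Set K))

variable {V : Submodule k K} {f : K}

theorem pow_le_pow_of_one_mem (h1 : (1 : K) ∈ V) {m n : ℕ} (h : m ≤ n) : V ^ m ≤ V ^ n := by
  obtain ⟨c, rfl⟩ := Nat.exists_eq_add_of_le h
  rw [pow_add]
  calc V ^ m = V ^ m * 1 := (mul_one _).symm
    _ ≤ V ^ m * V ^ c := mul_le_mul' le_rfl (by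
        rw [Submodule.one_le]
        have := Submodule.pow_mem_pow V h1 c
        rwa [one_pow] at this)

/-- Elements of the chart algebra have a denominator `f ^ N`. -/
theorem exists_of_mem (hf : f ∈ V) (hf0 : f ≠ 0) {c : K} (hc : c ∈ ChF V f) :
    ∃ N, ∀ n, N ≤ n → c * f ^ n ∈ V ^ n := by
  have key : ∀ (c : K) (N : ℕ), c * f ^ N ∈ V ^ N → ∀ n, N ≤ n → c * f ^ n ∈ V ^ n := by
    intro c N h n hn
    obtain ⟨l, rfl⟩ := Nat.exists_eq_add_of_le hn
    rw [pow_add, pow_add, ← mul_assoc]
    exact Submodule.mul_mem_mul h (Submodule.pow_mem_pow V hf l)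
  induction hc using Algebra.adjoin_induction with
  | mem x hx =>
    obtain ⟨a, ha, rfl⟩ := hx
    refine ⟨1, key _ 1 ?_⟩
    rw [pow_one, pow_one, div_mul_cancel₀ _ hf0]
    exact ha
  | algebraMap r =>
    refine ⟨0, key _ 0 ?_⟩
    rw [pow_zero, pow_zero, mul_one]
    exact Submodule.mem_one.2 ⟨r, rfl⟩
  | add x y _ _ hx hy =>
    obtain ⟨m, hm⟩ := hx
    obtain ⟨n, hn⟩ := hy
    refine ⟨max m n, fun l hl => ?_⟩
    rw [add_mul]
    exact add_mem (hm l ((le_max_left _ _).trans hl)) (hn l ((le_max_right _ _).trans hl))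
  | mul x y _ _ hx hy =>
    obtain ⟨m, hm⟩ := hx
    obtain ⟨n, hn⟩ := hy
    refine ⟨m + n, key _ _ ?_⟩
    have : x * y * f ^ (m + n) = x * f ^ m * (y * f ^ n) := by ring
    rw [this, pow_add]
    exact Submodule.mul_mem_mul (hm m le_rfl) (hn n le_rfl)

theorem div_mem {a : K} {N : ℕ} (ha : a ∈ V ^ N) : a / f ^ N ∈ ChF V f := by
  induction N generalizing a with
  | zero =>
    rw [pow_zero] at ha
    obtain ⟨r, rfl⟩ := Submodule.mem_one.1 ha
    rw [pow_zero, div_one]
    exact Subalgebra.algebraMap_mem _ r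
  | succ n ih =>
    rw [pow_succ] at ha
    refine Submodule.mul_induction_on ha (fun a ha b hb => ?_) (fun a b ha hb => ?_)
    · rw [pow_succ, mul_div_mul_comm]
      exact mul_mem (ih ha) (Algebra.subset_adjoin ⟨b, hb, rfl⟩)
    · rw [add_div]
      exact add_mem ha hb

end Ch

section Closed

open Polynomial

variable (k : Type u) {K : Type u} [Field k] [Field K] [Algebra k K] (Y : Set K)

/-- If `F (d m) = (F d) ^ m` then the chart algebra is integrally closed in `K`. -/
theorem mem_of_isIntegral {d : ℕ} (hd : ∀ m, 1 ≤ m → F k Y (d * m) ≤ F k Y d ^ m) {f : K}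
    (hf : f ∈ F k Y d) (hf0 : f ≠ 0) {g : K} (hg : IsIntegral (ChF (F k Y d) f) g) :
    g ∈ ChF (F k Y d) f := by
  obtain ⟨p, hp, hpg⟩ := hg
  have hD : ∀ i, ∃ N, ∀ n, N ≤ n → (p.coeff i : K) * f ^ n ∈ F k Y d ^ n := fun i =>
    exists_of_mem hf hf0 (p.coeff i).2
  choose D hD using hD
  let N := (Finset.range (p.natDegree + 1)).sup D + 1
  let q := (p.map (algebraMap (ChF (F k Y d) f) K)).scaleRoots (f ^ N)
  have hmon : (p.map (algebraMap (ChF (F k Y d) f) K)).Monic := hp.map _
  have hq : q.Monic := (monic_scaleRoots_iff _).2 hmon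
  have hdeg : q.natDegree = p.natDegree := by
    rw [natDegree_scaleRoots, hp.natDegree_map]
  have hev : q.eval (f ^ N * g) = 0 := by
    have h1 : (p.map (algebraMap (ChF (F k Y d) f) K)).eval₂ (RingHom.id K) g = 0 := by
      rw [eval₂_id, eval_map]
      exact hpg
    have h2 := scaleRoots_eval₂_eq_zero (RingHom.id K) (s := f ^ N) h1
    rw [eval₂_id, RingHom.id_apply] at h2
    exact h2
  have h3 : f ^ N * g ∈ F k Y (d * N) := by
    refine mem_F_of_monic k Y q hq (fun i hi => ?_) hev
    rw [hdeg] at hi ⊢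
    rw [coeff_scaleRoots, hp.natDegree_map, coeff_map, ← pow_mul, mul_assoc]
    refine F_pow_le k Y d _ (hD i _ ?_)
    calc D i ≤ (Finset.range (p.natDegree + 1)).sup D :=
          Finset.le_sup (Finset.mem_range.2 (by omega))
      _ ≤ N := Nat.le_succ _
      _ ≤ _ := Nat.le_mul_of_pos_right _ (by omega)
  have h4 : g = f ^ N * g / f ^ N := by
    rw [mul_comm, mul_div_assoc, div_self (pow_ne_zero _ hf0), mul_one]
  rw [h4]
  exact div_mem (hd N (Nat.succ_pos _) h3)

end Closed

variable (k A K : Type u) [Field k] [CommRing A] [IsDomain A] [Algebra k A] [Algebra.FiniteType k A]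
  [Field K] [Algebra A K] [IsFractionRing A K] [Algebra k K] [IsScalarTower k A K]

variable {A} in
/-- The chart algebra `k[f m / f i | m]`. -/
noncomputable def Ch {ι : Type*} (f : ι → A) (i : ι) : Subalgebra k K :=
  Algebra.adjoin k (Set.range fun m => algebraMap A K (f m) / algebraMap A K (f i))

omit [IsFractionRing A K] in
/-- The Noether normalization, in the fraction field. -/
theorem exists_noether : ∃ Y : Set K, Y.Finite ∧ Y ⊆ Set.range (algebraMap A K) ∧
    ∀ a : A, IsIntegral (Algebra.adjoin k Y) (algebraMap A K a) := by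
  obtain ⟨s, g, -, hg⟩ := exists_finite_inj_algHom_of_fg k A
  refine ⟨Set.range fun i => algebraMap A K (g (MvPolynomial.X i)), Set.finite_range _, ?_, ?_⟩
  · rintro _ ⟨i, rfl⟩
    exact ⟨_, rfl⟩
  · intro a
    let φ : MvPolynomial (Fin s) k →ₐ[k] K := (IsScalarTower.toAlgHom k A K).comp g
    have h1 : ∀ p, φ p ∈ Algebra.adjoin k
        (Set.range fun i => algebraMap A K (g (MvPolynomial.X i))) := by
      intro p
      induction p using MvPolynomial.induction_on with
      | C r =>
        have : φ (MvPolynomial.C r) = algebraMap k K r := φ.commutes r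
        rw [this]
        exact Subalgebra.algebraMap_mem _ r
      | add p q hp hq => rw [map_add]; exact add_mem hp hq
      | mul_X p i hp =>
        rw [map_mul]
        exact mul_mem hp (Algebra.subset_adjoin ⟨i, rfl⟩)
    let ψ : MvPolynomial (Fin s) k →+* Algebra.adjoin k
        (Set.range fun i => algebraMap A K (g (MvPolynomial.X i))) :=
      φ.toRingHom.codRestrict (Algebra.adjoin k _).toSubring h1
    let : Algebra (MvPolynomial (Fin s) k) A := g.toRingHom.toAlgebra
    have ha : IsIntegral (MvPolynomial (Fin s) k) a := hg.to_isIntegral a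
    exact ha.map_of_comp_eq ψ (algebraMap A K) (RingHom.ext fun p => rfl)

/-- **Normal compactification in charts.** -/
theorem exists_family [IsIntegrallyClosed A] (x : A →ₐ[k] k) :
    ∃ (M : ℕ) (f : Fin (M + 1) → A), f 0 = 1 ∧ LinearIndependent k f ∧ (∀ i, f i ≠ 0) ∧
      (∀ i, i ≠ 0 → x (f i) = 0) ∧ Algebra.adjoin k (Set.range f) = ⊤ ∧
      ∀ i, IsFractionRing (Ch k K f i) K ∧ IsIntegrallyClosed (Ch k K f i) := by
  obtain ⟨Y, hY, hYA, hAY⟩ := exists_noether k A K
  obtain ⟨e, he⟩ := exists_good k A hY hAY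
  obtain ⟨S, hS⟩ := (‹Algebra.FiniteType k A›).out
  have hD : ∀ a : A, ∃ m, algebraMap A K a ∈ F k Y m := fun a => exists_mem_F k Y (hAY a)
  choose D hD using hD
  let d := e + 1 + S.sup D
  let V := F k Y d
  have hd : ∀ m, 1 ≤ m → F k Y (d * m) ≤ V ^ m := by
    intro m hm
    obtain ⟨n, rfl⟩ := Nat.exists_eq_add_of_le' hm
    have hde : e ≤ d := by omega
    refine (he _ (hde.trans (Nat.le_mul_of_pos_right _ (Nat.succ_pos _)))).trans ?_
    have h1 : d * (n + 1) - e = d * n + (d - e) := by
      rw [mul_add, mul_one]; omega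
    rw [h1, pow_add, mul_assoc, pow_succ]
    refine mul_le_mul' ?_ ?_
    · rw [pow_mul]
      exact pow_le_pow_left' (P1_pow_le_F k Y d) n
    · calc P1 k Y ^ (d - e) * F k Y e ≤ F k Y (d - e) * F k Y e :=
            mul_le_mul' (P1_pow_le_F k Y _) le_rfl
        _ ≤ F k Y (d - e + e) := F_mul_le k Y _ _
        _ = V := by rw [Nat.sub_add_cancel hde]
  have h1V : (1 : K) ∈ V := one_mem_F k Y d
  have hVfg : V.FG := F_fg k A hY hAY d
  -- elements of `V` are in `A`
  have hVA : ∀ z ∈ V, ∃ a : A, algebraMap A K a = z := by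
    intro z hz
    have h1 := isIntegral_of_mem_F k Y hz
    have h2 : ∀ p : Algebra.adjoin k Y, ∃ a : A, algebraMap A K a = p := by
      rintro ⟨p, hp⟩
      have h3 : Algebra.adjoin k Y ≤ (IsScalarTower.toAlgHom k A K).range := by
        refine Algebra.adjoin_le fun y hy => ?_
        obtain ⟨a, rfl⟩ := hYA hy
        exact ⟨a, rfl⟩
      obtain ⟨a, ha⟩ := h3 hp
      exact ⟨a, ha⟩
    have h4 : IsIntegral A z := by
      choose g hg using h2
      have hinj := IsFractionRing.injective A K
      let φ : Algebra.adjoin k Y →+* A :=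
        { toFun := g
          map_one' := hinj (by rw [hg, map_one]; rfl)
          map_zero' := hinj (by rw [hg, map_zero]; rfl)
          map_add' := fun a b => hinj (by rw [map_add, hg, hg, hg]; rfl)
          map_mul' := fun a b => hinj (by rw [map_mul, hg, hg, hg]; rfl) }
      have := h1.map_of_comp_eq φ (RingHom.id K) (by ext1 p; exact hg p)
      exact this
    exact (IsIntegrallyClosed.isIntegral_iff (R := A) (K := K)).1 h4
  let j : A →ₗ[k] K := (IsScalarTower.toAlgHom k A K).toLinearMap
  have hj : Function.Injective j := IsFractionRing.injective A K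
  let W : Submodule k A := V.comap j
  have hWV : W.map j = V := by
    refine le_antisymm (Submodule.map_comap_le _ _) fun z hz => ?_
    obtain ⟨a, rfl⟩ := hVA z hz
    exact ⟨a, hz, rfl⟩
  have hWfg : W.FG := Submodule.fg_of_fg_map_injective j hj (by rw [hWV]; exact hVfg)
  let W' : Submodule k A := W ⊓ LinearMap.ker x.toLinearMap
  have : IsNoetherian k W := isNoetherian_of_fg_of_noetherian _ hWfg
  have hW'fg : W'.FG := Submodule.FG.of_le_of_isNoetherian (T := W) inf_le_left
  have : Module.Finite k W' := Module.Finite.iff_fg.2 hW'fg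
  let b := Module.finBasis k W'
  let M := Module.finrank k W'
  let f : Fin (M + 1) → A := Fin.cons 1 fun i => (b i : A)
  have hf0 : f 0 = 1 := rfl
  have hfs : ∀ i : Fin M, f i.succ = b i := fun i => rfl
  have hfx : ∀ i, i ≠ 0 → x (f i) = 0 := by
    intro i hi
    obtain ⟨l, rfl⟩ := Fin.exists_succ_eq.2 hi
    exact (b l).2.2
  have hli : LinearIndependent k f := by
    refine LinearIndependent.finCons' _ _ ?_ ?_
    · exact b.linearIndependent.map' W'.subtype (Submodule.ker_subtype _)
    · intro c y hys hcy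
      have hy : x y = 0 := by
        have : Submodule.span k (Set.range fun i => (b i : A)) ≤ LinearMap.ker x.toLinearMap := by
          refine Submodule.span_le.2 ?_
          rintro _ ⟨i, rfl⟩
          exact (b i).2.2
        exact this hys
      have h1 := congrArg x hcy
      rw [map_add, map_smul, map_one, hy, map_zero, add_zero, smul_eq_mul, mul_one] at h1
      exact h1
  have hspan : Submodule.span k (Set.range f) = W := by
    refine le_antisymm ?_ ?_
    · refine Submodule.span_le.2 ?_
      rintro _ ⟨i, rfl⟩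
      rcases Fin.eq_zero_or_eq_succ i with rfl | ⟨l, rfl⟩
      · change j 1 ∈ V
        have : j 1 = 1 := map_one (algebraMap A K)
        rw [this]
        exact h1V
      · exact (b l).2.1
    · intro a ha
      have h1W : (1 : A) ∈ W := by
        change j 1 ∈ V
        have : j 1 = 1 := map_one (algebraMap A K)
        rw [this]
        exact h1V
      have h2 : a - x a • (1 : A) ∈ W' := by
        refine ⟨sub_mem ha (Submodule.smul_mem _ _ h1W), ?_⟩
        change x (a - x a • (1 : A)) = 0
        rw [map_sub, map_smul, map_one, smul_eq_mul, mul_one, sub_self]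
      have h3 : a = x a • (1 : A) + (a - x a • (1 : A)) := by abel
      rw [h3]
      refine add_mem (Submodule.smul_mem _ _ (Submodule.subset_span ⟨0, rfl⟩)) ?_
      have h4 : (⟨_, h2⟩ : W') ∈ Submodule.span k (Set.range b) := by
        rw [b.span_eq]; trivial
      have h5 := Submodule.mem_map_of_mem (f := W'.subtype) h4
      rw [Submodule.map_span] at h5
      refine Submodule.span_mono ?_ h5
      rintro _ ⟨_, ⟨i, rfl⟩, rfl⟩
      exact ⟨i.succ, rfl⟩
  have hChF : ∀ i, Ch k K f i = ChF V (j (f i)) := by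
    intro i
    refine le_antisymm (Algebra.adjoin_mono ?_) (Algebra.adjoin_le ?_)
    · rintro _ ⟨m, rfl⟩
      refine ⟨j (f m), ?_, rfl⟩
      have : f m ∈ W := by
        rw [← hspan]
        exact Submodule.subset_span ⟨m, rfl⟩
      exact this
    · rintro _ ⟨a, ha, rfl⟩
      rw [SetLike.mem_coe, ← hWV, ← hspan, Submodule.map_span] at ha
      refine Submodule.span_induction (p := fun a _ => a / j (f i) ∈ Ch k K f i) ?_ ?_ ?_ ?_ ha
      · rintro _ ⟨_, ⟨m, rfl⟩, rfl⟩
        exact Algebra.subset_adjoin ⟨m, rfl⟩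
      · rw [zero_div]; exact zero_mem _
      · intro a b _ _ ha hb
        rw [add_div]; exact add_mem ha hb
      · intro r a _ ha
        rw [smul_div_assoc]; exact Subalgebra.smul_mem _ ha r
  refine ⟨M, f, hf0, hli, fun i => hli.ne_zero i, hfx, ?_, fun i => ?_⟩
  · rw [eq_top_iff, ← hS]
    refine Algebra.adjoin_le fun s hs => ?_
    have h1 : s ∈ W := F_mono k Y ((Finset.le_sup (f := D) hs).trans (Nat.le_add_left _ _)) (hD s)
    rw [← hspan] at h1
    exact Algebra.span_le_adjoin k _ h1
  · rw [hChF i]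
    have hfV : j (f i) ∈ V := by
      have : f i ∈ W := by
        rw [← hspan]
        exact Submodule.subset_span ⟨i, rfl⟩
      exact this
    have hf0 : j (f i) ≠ 0 := fun h => hli.ne_zero i (hj (by rw [h, map_zero]))
    have hfr : IsFractionRing (ChF V (j (f i))) K := by
      refine IsFractionRing.of_field _ _ fun z => ?_
      obtain ⟨p, q, -, rfl⟩ := IsFractionRing.div_surjective (A := A) z
      have hN : ∀ a : A, D a ≤ D p + D q + 1 →
          algebraMap A K a / j (f i) ^ (D p + D q + 1) ∈ ChF V (j (f i)) := by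
        intro a ha
        refine div_mem (hd _ (Nat.succ_pos _) (F_mono k Y ?_ (hD a)))
        exact ha.trans (Nat.le_mul_of_pos_left _ (by omega))
      refine ⟨⟨_, hN p (by omega)⟩, ⟨_, hN q (by omega)⟩, ?_⟩
      exact (div_div_div_cancel_right₀ (pow_ne_zero _ hf0) _ _).symm
    refine ⟨hfr, (isIntegrallyClosed_iff K).2 fun {z} hz => ?_⟩
    exact ⟨⟨z, mem_of_isIntegral k Y hd hfV hf0 hz⟩, rfl⟩

end Groth.Agent.An.H22.NormFam
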