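import Groth.Agent.An.H22.Assemble
import Groth.Agent.An.H22.NormFam
import Groth.Agent.An.H900.Forms

/-!
# From the family of curve sections to the step of the induction
-/

set_option autoImplicit false
universe u

namespace Groth.Agent.An.H22.Glue

open CategoryTheory AlgebraicGeometry MvPolynomial TensorProduct Algebra
open Assemble H900.Forms

/-- The family `{H_l = t_l T_0 ^ d}` of curve sections is an elementary fibration near the origin. -/
def FHyp (k : Type u) [Field k] : Prop :=
  ∀ (K : Type u) [Field K] [Algebra k K] (M n : ℕ) (f : Fin (M + 1) → K) (_ : f 0 = 1)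
    (_ : ∀ i, f i ≠ 0) (_ : ∀ i, IsFractionRing (Ch k f i) K)
    (d : ℕ) (_ : 1 ≤ d) (H : Fin n → MvPolynomial (Fin (M + 1)) k) (_ : ∀ l, (H l).IsHomogeneous d)
    (_ : ∀ (i : Fin (M + 1)) (q : Ideal (Ch k f i)) [q.IsPrime],
      (∀ l, aeval (coor k f i) (H l) ∈ q) → Algebra.IsSmoothAt k q ∧
        LinearIndependent q.ResidueField (fun l => (1 : q.ResidueField) ⊗ₜ[Ch k f i]
          KaehlerDifferential.D k (Ch k f i) (aeval (coor k f i) (H l))) ∧
        Module.finrank q.ResidueField (q.ResidueField ⊗[Ch k f i] Ω[Ch k f i⁄k]) = n + 1)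
    (_ : ∀ i, Module.Finite k (Ch k f i ⧸ Ideal.span (insert (coor k f i 0)
      (Set.range fun l => aeval (coor k f i) (H l)))))
    (x : Ch k f 0 →ₐ[k] k) (_ : ∀ l, x (aeval (coor k f 0) (H l)) = 0),
    ∃ V₁ : (Spec (CommRingCat.of (MvPolynomial (Fin n) k))).Opens,
      (∀ p : PrimeSpectrum (MvPolynomial (Fin n) k),
        (∀ i, MvPolynomial.X i ∈ p.asIdeal) → p ∈ V₁) ∧
      ∀ V ≤ V₁, (V : Set (Spec (CommRingCat.of (MvPolynomial (Fin n) k)))).Nonempty →
        _root_.An.IsElementaryFibration (Spec.map (CommRingCat.ofHom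
          (aeval (fun l => aeval (coor k f 0) (H l)) :
            MvPolynomial (Fin n) k →ₐ[k] Ch k f 0).toRingHom) ∣_ V)

/-- The transcendence degree of a standard smooth domain. -/
theorem trdeg_eq (k A : Type u) [Field k] [PerfectField k] [CommRing A] [IsDomain A] [Algebra k A]
    (N : ℕ) [Algebra.IsStandardSmoothOfRelativeDimension N k A] :
    Algebra.trdeg k A = N := by
  have hss : Algebra.IsStandardSmooth k A :=
    Algebra.IsStandardSmoothOfRelativeDimension.isStandardSmooth N
  have hlt : Algebra.trdeg k A < Cardinal.aleph0 := trdeg_lt_aleph0_of_finiteType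
  obtain ⟨m, hm⟩ := Cardinal.lt_aleph0.1 hlt
  have h1 := finrank_kaehler_of_isSmoothAt (k := k) (A := A) hm ⊥ inferInstance
  have h2 : Module.finrank (⊥ : Ideal A).ResidueField
      ((⊥ : Ideal A).ResidueField ⊗[A] Ω[A⁄k]) = N := by
    rw [Module.finrank_baseChange]
    exact Module.finrank_eq_of_rank_eq
      (Algebra.IsStandardSmoothOfRelativeDimension.rank_kaehlerDifferential N)
  rw [hm, ← h1, h2]

theorem stepHyp (k : Type u) [Field k] [IsAlgClosed k] (F : FHyp k) : StepHyp k := by
  intro N A _ _ _ _ x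
  have hss : Algebra.IsStandardSmooth k A :=
    Algebra.IsStandardSmoothOfRelativeDimension.isStandardSmooth (N + 1)
  have hic : IsIntegrallyClosed A := isIntegrallyClosed_of_smooth (k := k) A
  let K := FractionRing A
  have hjinj : Function.Injective (algebraMap A K) := IsFractionRing.injective A K
  obtain ⟨M, g, hg0, -, hg, hgx, hgen, hch⟩ := NormFam.exists_family k A K x
  let f : Fin (M + 1) → K := fun i => algebraMap A K (g i)
  have hf0 : f 0 = 1 := by
    change algebraMap A K (g 0) = 1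
    rw [hg0, map_one]
  have hf : ∀ i, f i ≠ 0 := fun i h => hg i (hjinj (by rw [map_zero]; exact h))
  have hfr : ∀ i, IsFractionRing (Ch k f i) K := fun i => (hch i).1
  have hN : ∀ i, IsIntegrallyClosed (Ch k f i) := fun i => (hch i).2
  have htr : Algebra.trdeg k K = ((N + 1 : ℕ) : Cardinal) := by
    have ha : Algebra.IsAlgebraic A K :=
      IsLocalization.isAlgebraic (R := A) (S := K) (nonZeroDivisors A)
    have h1 := trdeg_add_eq k A (A := K)
    rw [trdeg_eq_zero (R := A) (A := K), add_zero, trdeg_eq k A (N + 1)] at h1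
    exact h1.symm
  -- the isomorphism `A ≃ Ch k f 0`
  let j : A →ₐ[k] K := IsScalarTower.toAlgHom k A K
  have hrange : j.range = Ch k f 0 := by
    rw [← Algebra.map_top, ← hgen, AlgHom.map_adjoin, ← Set.range_comp]
    congr 1
    ext z
    constructor
    · rintro ⟨m, rfl⟩
      exact ⟨m, by simp only [hf0, div_one]; rfl⟩
    · rintro ⟨m, rfl⟩
      exact ⟨m, by simp only [hf0, div_one]; rfl⟩
  let e : A ≃ₐ[k] Ch k f 0 :=
    (AlgEquiv.ofInjective j hjinj).trans (Subalgebra.equivOfEq _ _ hrange)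
  have he : ∀ a, ((e a : Ch k f 0) : K) = algebraMap A K a := fun a => rfl
  let x' : Ch k f 0 →ₐ[k] k := x.comp e.symm.toAlgHom
  have hx' : ∀ i : Fin M, x' (coor k f 0 i.succ) = 0 := by
    intro i
    have : e (g i.succ) = coor k f 0 i.succ := by
      apply Subtype.ext
      rw [he, coe_coor, hf0, div_one]
    change x (e.symm _) = 0
    rw [← this, AlgEquiv.symm_apply_apply]
    exact hgx _ (Fin.succ_ne_zero i)
  have hsm0 : Algebra.Smooth k (Ch k f 0) := Algebra.Smooth.of_equiv e
  obtain ⟨H, hH, hG1, hG2, hG3⟩ := exists_forms (k := k) (n := N) f hf hfr hN htr x' hx'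
    (fun q _ _ => inferInstance)
  obtain ⟨V₁, h0, hV⟩ := F K M N f hf0 hf hfr 2 one_le_two H hH
    (fun i q _ => hG1 i q) hG2 x' hG3
  let φ₀ : MvPolynomial (Fin N) k →ₐ[k] Ch k f 0 := aeval (fun l => aeval (coor k f 0) (H l))
  let φ : MvPolynomial (Fin N) k →ₐ[k] A := e.symm.toAlgHom.comp φ₀
  refine ⟨φ, fun i => ?_, V₁, h0, fun V hVV hne => ?_⟩
  · change x (e.symm (φ₀ (X i))) = 0
    have : φ₀ (X i) = aeval (coor k f 0) (H i) := aeval_X _ _
    rw [this]
    exact hG3 i
  · have h1 : Spec.map (CommRingCat.ofHom φ.toRingHom) =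
        Spec.map (CommRingCat.ofHom e.symm.toRingEquiv.toRingHom) ≫
          Spec.map (CommRingCat.ofHom φ₀.toRingHom) := by
      rw [← Spec.map_comp, ← CommRingCat.ofHom_comp]
      rfl
    have hiso : IsIso (Spec.map (CommRingCat.ofHom e.symm.toRingEquiv.toRingHom)) := by
      have : IsIso (CommRingCat.ofHom e.symm.toRingEquiv.toRingHom) :=
        (ConcreteCategory.isIso_iff_bijective _).2 e.symm.bijective
      infer_instance
    rw [h1, morphismRestrict_comp]
    have key : ∀ {X Y : Scheme.{u}} (g : X ⟶ Y) (U : Y.Opens), IsIso g → IsIso (g ∣_ U) :=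
      fun g U _ => inferInstance
    have h2 := key (Spec.map (CommRingCat.ofHom e.symm.toRingEquiv.toRingHom))
      (Spec.map (CommRingCat.ofHom φ₀.toRingHom) ⁻¹ᵁ V) hiso
    exact @elem_of_iso _ _ _ _ h2 _ (hV V hVV hne)

end Groth.Agent.An.H22.Glue
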