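import Groth.Agent.VarietyB.FinNormField

/-!
# The degree filtration on the integral closure of `k[Y]` in a field

Let `k ⊆ K` be fields and `Y ⊆ K` a subset.  `P1 k Y` is the `k`-span of `1` and `Y`,
`PP k Y ⊆ K[X]` is the subalgebra generated by `X` and the `y X`, and `F k Y m` is the space of all
`a ∈ K` such that `a X ^ m` is integral over `PP k Y`.  If `Y` is finite and `K` is the fraction field
of an algebra of finite type which is integral over `k[Y]`, this is a good filtration:
`F m ≤ P1 ^ (m - e) * F e` for all `m ≥ e`, and each `F m` is finite dimensional.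
-/

set_option autoImplicit false
universe u

namespace Groth.Agent.An.H22.NormFilt

open Polynomial

variable (k : Type u) {K : Type u} [Field k] [Field K] [Algebra k K] (Y : Set K)

/-- The span of `1` and `Y`. -/
noncomputable def P1 : Submodule k K := Submodule.span k (insert 1 Y)

/-- The graded algebra `k[X, yX] ⊆ K[X]`. -/
noncomputable def PP : Subalgebra k K[X] := Algebra.adjoin k (insert X ((fun y => C y * X) '' Y))

/-- `a ↦ a X ^ m`. -/
noncomputable def phi (m : ℕ) : K →ₗ[k] K[X] where
  toFun a := C a * X ^ m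
  map_add' a b := by rw [C_add, add_mul]
  map_smul' r a := by
    rw [RingHom.id_apply, Algebra.smul_def, C_mul, Algebra.smul_def, mul_assoc]
    rfl

/-- `a ∈ F m` iff `a X ^ m` is integral over `PP`. -/
noncomputable def F (m : ℕ) : Submodule k K :=
  ((Subalgebra.toSubmodule (integralClosure (PP k Y) K[X])).restrictScalars k).comap (phi k m)

theorem mem_F {m : ℕ} {a : K} : a ∈ F k Y m ↔ IsIntegral (PP k Y) (C a * X ^ m) := Iff.rfl

theorem one_mem_P1 : (1 : K) ∈ P1 k Y := Submodule.subset_span (Set.mem_insert _ _)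

theorem mem_P1 {y : K} (hy : y ∈ Y) : y ∈ P1 k Y :=
  Submodule.subset_span (Set.mem_insert_of_mem _ hy)

theorem one_le_P1 : (1 : Submodule k K) ≤ P1 k Y := by
  rw [Submodule.one_le]
  exact one_mem_P1 k Y

theorem P1_pow_mono {m n : ℕ} (h : m ≤ n) : P1 k Y ^ m ≤ P1 k Y ^ n := by
  obtain ⟨c, rfl⟩ := Nat.exists_eq_add_of_le h
  rw [pow_add]
  calc P1 k Y ^ m = P1 k Y ^ m * 1 := (mul_one _).symm
    _ ≤ P1 k Y ^ m * P1 k Y ^ c := mul_le_mul' le_rfl (by
        rw [Submodule.one_le]
        have := Submodule.pow_mem_pow (P1 k Y) (one_mem_P1 k Y) c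
        rwa [one_pow] at this)

theorem X_mem_PP : (X : K[X]) ∈ PP k Y := Algebra.subset_adjoin (Set.mem_insert _ _)

theorem CX_mem_PP {y : K} (hy : y ∈ Y) : C y * X ∈ PP k Y :=
  Algebra.subset_adjoin (Set.mem_insert_of_mem _ ⟨y, hy, rfl⟩)

theorem P1_le : P1 k Y ≤ (Subalgebra.toSubmodule (PP k Y)).comap (phi k 1) := by
  refine Submodule.span_le.2 ?_
  rintro y (rfl | hy)
  · change C 1 * X ^ 1 ∈ PP k Y
    simpa using X_mem_PP k Y
  · change C y * X ^ 1 ∈ PP k Y
    simpa using CX_mem_PP k Y hy

theorem P1_pow_le (m : ℕ) : P1 k Y ^ m ≤ (Subalgebra.toSubmodule (PP k Y)).comap (phi k m) := by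
  induction m with
  | zero =>
    rw [pow_zero, Submodule.one_le]
    change C 1 * X ^ 0 ∈ PP k Y
    simp
  | succ n ih =>
    rw [pow_succ, Submodule.mul_le]
    intro a ha b hb
    have h1 : C a * X ^ n ∈ PP k Y := ih ha
    have h2 : C b * X ^ 1 ∈ PP k Y := P1_le k Y hb
    have h3 := mul_mem h1 h2
    change C (a * b) * X ^ (n + 1) ∈ PP k Y
    have h4 : C (a * b) * X ^ (n + 1) = C a * X ^ n * (C b * X ^ 1) := by
      rw [C_mul]; ring
    rw [h4]
    exact h3

theorem P1_pow_le_F (m : ℕ) : P1 k Y ^ m ≤ F k Y m := fun a ha => by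
  have h : C a * X ^ m ∈ PP k Y := P1_pow_le k Y m ha
  exact isIntegral_algebraMap (R := PP k Y) (A := K[X]) (x := ⟨C a * X ^ m, h⟩)

theorem one_mem_F (m : ℕ) : (1 : K) ∈ F k Y m := by
  have := Submodule.pow_mem_pow (P1 k Y) (one_mem_P1 k Y) m
  rw [one_pow] at this
  exact P1_pow_le_F k Y m this

theorem mul_mem_F {m n : ℕ} {a b : K} (ha : a ∈ F k Y m) (hb : b ∈ F k Y n) :
    a * b ∈ F k Y (m + n) := by
  rw [mem_F] at *
  have h4 : C (a * b) * X ^ (m + n) = C a * X ^ m * (C b * X ^ n) := by
    rw [C_mul]; ring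
  rw [h4]
  exact ha.mul hb

theorem F_mul_le (m n : ℕ) : F k Y m * F k Y n ≤ F k Y (m + n) :=
  Submodule.mul_le.2 fun _ ha _ hb => mul_mem_F k Y ha hb

theorem F_pow_le (m n : ℕ) : F k Y m ^ n ≤ F k Y (m * n) := by
  induction n with
  | zero =>
    rw [pow_zero, Submodule.one_le]
    exact one_mem_F k Y _
  | succ n ih =>
    rw [pow_succ, mul_add, mul_one]
    exact (mul_le_mul' ih le_rfl).trans (F_mul_le k Y _ _)

theorem F_mono {m n : ℕ} (h : m ≤ n) : F k Y m ≤ F k Y n := by
  obtain ⟨c, rfl⟩ := Nat.exists_eq_add_of_le h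
  intro a ha
  have := mul_mem_F k Y ha (one_mem_F k Y c)
  rwa [mul_one] at this

theorem coeff_mem {p : K[X]} (hp : p ∈ PP k Y) : ∀ i, p.coeff i ∈ P1 k Y ^ i := by
  induction hp using Algebra.adjoin_induction with
  | mem x hx =>
    intro i
    rcases hx with rfl | ⟨y, hy, rfl⟩
    · rw [coeff_X]
      split_ifs with h
      · subst h
        rw [pow_one]
        exact one_mem_P1 k Y
      · exact zero_mem _
    · rw [coeff_C_mul, coeff_X]
      split_ifs with h
      · subst h
        rw [pow_one, mul_one]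
        exact mem_P1 k Y hy
      · rw [mul_zero]
        exact zero_mem _
  | algebraMap r =>
    intro i
    have h0 : (algebraMap k K[X]) r = C (algebraMap k K r) := rfl
    rw [h0, coeff_C]
    split_ifs with h
    · subst h
      rw [pow_zero]
      exact Submodule.mem_one.2 ⟨r, rfl⟩
    · exact zero_mem _
  | add x y _ _ hx hy =>
    intro i
    rw [coeff_add]
    exact add_mem (hx i) (hy i)
  | mul x y _ _ hx hy =>
    intro i
    rw [coeff_mul]
    refine sum_mem fun q hq => ?_
    rw [← Finset.mem_antidiagonal.1 hq, pow_add]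
    exact Submodule.mul_mem_mul (hx _) (hy _)

/-- A polynomial with coefficients in a subring. -/
theorem isIntegral_of_coeff_mem {B : Type*} [CommRing B] (S : Subring B) {b : B} (q : B[X])
    (hq : q.Monic) (hc : ∀ i, q.coeff i ∈ S) (h : q.eval b = 0) : IsIntegral S b := by
  have hc' : (↑q.coeffs : Set B) ⊆ S := by
    intro c hcc
    obtain ⟨n, -, rfl⟩ := (Polynomial.mem_coeffs_iff).1 hcc
    exact hc n
  refine ⟨q.toSubring S hc', (Polynomial.monic_toSubring q S hc').2 hq, ?_⟩
  rw [← eval_map]
  have : (q.toSubring S hc').map (algebraMap S B) = q := Polynomial.map_toSubring q S hc'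
  rw [this, h]

/-- The main integrality lemma. -/
theorem mem_F_of_monic {D : ℕ} {a : K} (p : K[X]) (hp : p.Monic)
    (hc : ∀ i, i < p.natDegree → p.coeff i ∈ F k Y (D * (p.natDegree - i))) (h : p.eval a = 0) :
    a ∈ F k Y D := by
  rw [mem_F]
  have hC : Function.Injective (C : K → K[X]) := C_injective
  let q : K[X][X] := (p.map (C : K →+* K[X])).scaleRoots (X ^ D)
  have hmon : (p.map (C : K →+* K[X])).Monic := hp.map _
  have hq : q.Monic := (monic_scaleRoots_iff _).2 hmon
  have hdeg : (p.map (C : K →+* K[X])).natDegree = p.natDegree := hp.natDegree_map _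
  have hev : q.eval (C a * X ^ D) = 0 := by
    have h1 : (p.map (C : K →+* K[X])).eval₂ (RingHom.id K[X]) (C a) = 0 := by
      rw [eval₂_id, eval_map, eval₂_hom, h, C_0]
    have h2 := scaleRoots_eval₂_eq_zero (RingHom.id K[X]) (s := X ^ D) h1
    rw [eval₂_id, RingHom.id_apply, mul_comm] at h2
    exact h2
  have hcoeff : ∀ i, q.coeff i ∈ (integralClosure (PP k Y) K[X]).toSubring := by
    intro i
    change IsIntegral (PP k Y) _
    rw [coeff_scaleRoots, hdeg, coeff_map]
    rcases lt_trichotomy i p.natDegree with hi | hi | hi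
    · have := hc i hi
      rw [mem_F, pow_mul] at this
      exact this
    · subst hi
      rw [coeff_natDegree, hp.leadingCoeff, C_1, Nat.sub_self, pow_zero, mul_one]
      exact isIntegral_one
    · rw [coeff_eq_zero_of_natDegree_lt hi, C_0, zero_mul]
      exact isIntegral_zero
  have h3 := isIntegral_of_coeff_mem (integralClosure (PP k Y) K[X]).toSubring q hq hcoeff hev
  have h4 : IsIntegral (integralClosure (PP k Y) K[X]) (C a * X ^ D) := h3
  exact isIntegral_trans _ h4

/-- Elements of `k[Y]` are in some power of `P1`. -/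
theorem exists_mem_P1_pow {c : K} (hc : c ∈ Algebra.adjoin k Y) : ∃ D, c ∈ P1 k Y ^ D := by
  induction hc using Algebra.adjoin_induction with
  | mem x hx => exact ⟨1, by rw [pow_one]; exact mem_P1 k Y hx⟩
  | algebraMap r => exact ⟨0, by rw [pow_zero]; exact Submodule.mem_one.2 ⟨r, rfl⟩⟩
  | add x y _ _ hx hy =>
    obtain ⟨m, hm⟩ := hx
    obtain ⟨n, hn⟩ := hy
    exact ⟨max m n, add_mem (P1_pow_mono k Y (le_max_left _ _) hm)
      (P1_pow_mono k Y (le_max_right _ _) hn)⟩
  | mul x y _ _ hx hy =>
    obtain ⟨m, hm⟩ := hx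
    obtain ⟨n, hn⟩ := hy
    exact ⟨m + n, by rw [pow_add]; exact Submodule.mul_mem_mul hm hn⟩

/-- The union of the filtration is the integral closure of `k[Y]`. -/
theorem exists_mem_F {a : K} (ha : IsIntegral (Algebra.adjoin k Y) a) : ∃ m, a ∈ F k Y m := by
  obtain ⟨p, hp, hpa⟩ := ha
  have hD : ∀ i, ∃ D, (p.coeff i : K) ∈ P1 k Y ^ D := fun i =>
    exists_mem_P1_pow k Y (p.coeff i).2
  choose D hD using hD
  refine ⟨(Finset.range (p.natDegree + 1)).sup D, ?_⟩
  refine mem_F_of_monic k Y (p.map (algebraMap _ K)) (hp.map _) ?_ (by rw [eval_map]; exact hpa)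
  intro i hi
  rw [hp.natDegree_map] at hi ⊢
  rw [coeff_map]
  refine F_mono k Y ?_ (P1_pow_le_F k Y _ (hD i))
  calc D i ≤ (Finset.range (p.natDegree + 1)).sup D :=
        Finset.le_sup (Finset.mem_range.2 (by omega))
    _ ≤ _ := Nat.le_mul_of_pos_right _ (by omega)

/-- Conversely elements of the filtration are integral. -/
theorem isIntegral_of_mem_F {a : K} {m : ℕ} (ha : a ∈ F k Y m) :
    IsIntegral (Algebra.adjoin k Y) a := by
  rw [mem_F] at ha
  have hev : ∀ p ∈ PP k Y, p.eval 1 ∈ Algebra.adjoin k Y := by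
    intro p hp
    induction hp using Algebra.adjoin_induction with
    | mem x hx =>
      rcases hx with rfl | ⟨y, hy, rfl⟩
      · rw [eval_X]; exact one_mem _
      · rw [eval_mul, eval_C, eval_X, mul_one]
        exact Algebra.subset_adjoin hy
    | algebraMap r =>
      have h0 : (algebraMap k K[X]) r = C (algebraMap k K r) := rfl
      rw [h0, eval_C]
      exact Subalgebra.algebraMap_mem _ r
    | add x y _ _ hx hy => rw [eval_add]; exact add_mem hx hy
    | mul x y _ _ hx hy => rw [eval_mul]; exact mul_mem hx hy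
  let g : PP k Y →+* Algebra.adjoin k Y :=
    ((evalRingHom (1 : K)).comp (PP k Y).val.toRingHom).codRestrict (Algebra.adjoin k Y).toSubring
      fun p => hev p.1 p.2
  have := ha.map_of_comp_eq g (evalRingHom (1 : K)) (by ext1 p; rfl)
  rw [coe_evalRingHom, eval_mul, eval_C, eval_pow, eval_X, one_pow, mul_one] at this
  exact this

/-- The Rees algebra of the filtration. -/
noncomputable def Rees : Submodule (PP k Y) K[X] where
  carrier := {p | ∀ m, p.coeff m ∈ F k Y m}
  add_mem' := fun {a b} ha hb m => by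
    rw [coeff_add]
    exact add_mem (ha m) (hb m)
  zero_mem' := fun m => by
    rw [coeff_zero]
    exact zero_mem _
  smul_mem' := fun c p hp m => by
    have h : c • p = (c : K[X]) * p := rfl
    rw [h, coeff_mul]
    refine sum_mem fun q hq => ?_
    rw [← Finset.mem_antidiagonal.1 hq]
    exact mul_mem_F k Y (P1_pow_le_F k Y _ (coeff_mem k Y c.2 _)) (hp _)

theorem Rees_isIntegral {p : K[X]} (hp : p ∈ Rees k Y) : IsIntegral (PP k Y) p := by
  rw [← p.sum_C_mul_X_pow_eq, Polynomial.sum]
  exact IsIntegral.sum _ fun m _ => hp m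

theorem phi_mem_Rees {m : ℕ} {a : K} (ha : a ∈ F k Y m) : C a * X ^ m ∈ Rees k Y := by
  intro i
  rw [coeff_C_mul, coeff_X_pow]
  split_ifs with h
  · subst h
    rwa [mul_one]
  · rw [mul_zero]
    exact zero_mem _

variable {Y}

theorem PP_finiteType (hY : Y.Finite) : Algebra.FiniteType k (PP k Y) := by
  have : (PP k Y).FG := Subalgebra.fg_def.2 ⟨_, (hY.image _).insert _, rfl⟩
  exact (Subalgebra.fg_iff_finiteType _).1 this

section Finite

variable (A : Type u) [CommRing A] [Algebra A K] [IsFractionRing A K] [Algebra k A]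
  [IsScalarTower k A K] [Algebra.FiniteType k A]

attribute [local instance] FractionRing.liftAlgebra FractionRing.isScalarTower_liftAlgebra

theorem finiteDimensional (hYA : ∀ a : A, IsIntegral (Algebra.adjoin k Y) (algebraMap A K a)) :
    FiniteDimensional (FractionRing (PP k Y)) (FractionRing K[X]) := by
  classical
  let Q := FractionRing (PP k Y)
  let L := FractionRing K[X]
  let ι : K →+* L := (algebraMap K[X] L).comp C
  have hXP : X ∈ PP k Y := X_mem_PP k Y
  have hPL : ∀ p : PP k Y, algebraMap K[X] L p = algebraMap Q L (algebraMap (PP k Y) Q p) := by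
    intro p
    rw [← IsScalarTower.algebraMap_apply (PP k Y) Q L]
    rfl
  have hX0 : algebraMap K[X] L X ≠ 0 := by
    intro h
    exact X_ne_zero (IsFractionRing.injective K[X] L (by rw [h, map_zero]))
  -- the image of `k[Y]` is integral over `Q`
  have h1 : ∀ a ∈ Algebra.adjoin k Y, IsIntegral Q (ι a) := by
    intro a ha
    induction ha using Algebra.adjoin_induction with
    | mem y hy =>
      have h2 : ι y = algebraMap Q L (algebraMap (PP k Y) Q ⟨C y * X, CX_mem_PP k Y hy⟩ /
          algebraMap (PP k Y) Q ⟨X, hXP⟩) := by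
        rw [map_div₀, ← hPL, ← hPL, eq_div_iff hX0, map_mul]
        rfl
      rw [h2]
      exact isIntegral_algebraMap
    | algebraMap r =>
      have h2 : ι (algebraMap k K r) = algebraMap Q L (algebraMap (PP k Y) Q (algebraMap k _ r)) := by
        rw [← hPL]
        rfl
      rw [h2]
      exact isIntegral_algebraMap
    | add x y _ _ hx hy => rw [map_add]; exact hx.add hy
    | mul x y _ _ hx hy => rw [map_mul]; exact hx.mul hy
  have h2 : ∀ a : A, IsIntegral Q (ι (algebraMap A K a)) := by
    intro a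
    let g : Algebra.adjoin k Y →+* integralClosure Q L :=
      (ι.comp (Algebra.adjoin k Y).val.toRingHom).codRestrict (integralClosure Q L).toSubring
        fun p => h1 p.1 p.2
    have := (hYA a).map_of_comp_eq g ι (by ext1 p; rfl)
    exact isIntegral_trans _ this
  obtain ⟨S, hS⟩ := (‹Algebra.FiniteType k A›).out
  let T : Finset L := S.image fun a => ι (algebraMap A K a)
  have hfd : FiniteDimensional Q (IntermediateField.adjoin Q (T : Set L)) :=
    IntermediateField.finiteDimensional_adjoin fun x hx => by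
      obtain ⟨a, -, rfl⟩ := Finset.mem_image.1 (Finset.mem_coe.1 hx)
      exact h2 a
  have htop : IntermediateField.adjoin Q (T : Set L) = ⊤ := by
    rw [eq_top_iff]
    rintro z -
    let E := IntermediateField.adjoin Q (T : Set L)
    have hQ : ∀ q : Q, algebraMap Q L q ∈ E := fun q => E.algebraMap_mem q
    have e1 : ∀ a : A, ι (algebraMap A K a) ∈ E := by
      intro a
      have ha : a ∈ Algebra.adjoin k (S : Set A) := by rw [hS]; trivial
      induction ha using Algebra.adjoin_induction with
      | mem y hy => exact IntermediateField.subset_adjoin _ _ (Finset.mem_coe.2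
          (Finset.mem_image_of_mem _ (Finset.mem_coe.1 hy)))
      | algebraMap r =>
        have h2 : ι (algebraMap A K (algebraMap k A r)) =
            algebraMap Q L (algebraMap (PP k Y) Q (algebraMap k _ r)) := by
          rw [← hPL, ← IsScalarTower.algebraMap_apply k A K]
          rfl
        rw [h2]
        exact hQ _
      | add x y _ _ hx hy => rw [map_add, map_add]; exact add_mem hx hy
      | mul x y _ _ hx hy => rw [map_mul, map_mul]; exact mul_mem hx hy
    have e2 : ∀ a : K, ι a ∈ E := by
      intro a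
      obtain ⟨x, y, -, rfl⟩ := IsFractionRing.div_surjective (A := A) a
      rw [map_div₀]
      exact div_mem (e1 x) (e1 y)
    have e3 : ∀ p : K[X], algebraMap K[X] L p ∈ E := by
      intro p
      induction p using Polynomial.induction_on' with
      | add p q hp hq => rw [map_add]; exact add_mem hp hq
      | monomial n a =>
        rw [← C_mul_X_pow_eq_monomial, map_mul, map_pow]
        refine mul_mem (e2 a) (pow_mem ?_ _)
        rw [hPL ⟨X, hXP⟩]
        exact hQ _
    obtain ⟨x, y, -, rfl⟩ := IsFractionRing.div_surjective (A := K[X]) z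
    exact div_mem (e3 x) (e3 y)
  rw [htop] at hfd
  exact Module.Finite.of_surjective (IntermediateField.topEquiv (F := Q) (E := L)).toLinearMap
    (IntermediateField.topEquiv (F := Q) (E := L)).surjective

include A in
theorem Rees_fg (hY : Y.Finite)
    (hYA : ∀ a : A, IsIntegral (Algebra.adjoin k Y) (algebraMap A K a)) : (Rees k Y).FG := by
  let L := FractionRing K[X]
  have hft := PP_finiteType k hY
  have hN : IsNoetherianRing (PP k Y) := Algebra.FiniteType.isNoetherianRing k _
  have hfd := finiteDimensional k A hYA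
  have hfin : Module.Finite (PP k Y) (integralClosure (PP k Y) L) :=
    VarietyB.FinNormField.finite_integralClosure_of_finiteType k (PP k Y) (FractionRing (PP k Y)) L
  let N : Submodule (PP k Y) L := Subalgebra.toSubmodule (integralClosure (PP k Y) L)
  have hNn : IsNoetherian (PP k Y) N := isNoetherian_of_isNoetherianRing_of_finite (PP k Y)
    (integralClosure (PP k Y) L)
  let f : K[X] →ₗ[PP k Y] L := (IsScalarTower.toAlgHom (PP k Y) K[X] L).toLinearMap
  have hf : Function.Injective f := IsFractionRing.injective K[X] L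
  have hle : (Rees k Y).map f ≤ N := by
    rintro _ ⟨p, hp, rfl⟩
    exact (Rees_isIntegral k Y hp).map (IsScalarTower.toAlgHom (PP k Y) K[X] L)
  exact Submodule.fg_of_fg_map_injective f hf (Submodule.FG.of_le_of_isNoetherian hle)

include A in
theorem exists_gens (hY : Y.Finite)
    (hYA : ∀ a : A, IsIntegral (Algebra.adjoin k Y) (algebraMap A K a)) :
    ∃ G : Finset K[X], (∀ g ∈ G, g ∈ Rees k Y) ∧ ∀ (N : Submodule k K) (m : ℕ),
      (∀ g ∈ G, ∀ i l, i + l = m → ∀ a ∈ P1 k Y ^ i, a * g.coeff l ∈ N) → F k Y m ≤ N := by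
  obtain ⟨G, hG⟩ := Rees_fg k A hY hYA
  refine ⟨G, fun g hg => by rw [← hG]; exact Submodule.subset_span hg, fun N m h a ha => ?_⟩
  have h1 := phi_mem_Rees k Y ha
  rw [← hG] at h1
  obtain ⟨c, hc⟩ := Submodule.mem_span_finset.1 h1
  have h2 : a = (C a * X ^ m).coeff m := by
    rw [coeff_C_mul, coeff_X_pow_self, mul_one]
  rw [h2, ← hc.2, finsetSum_coeff]
  refine sum_mem fun g hg => ?_
  have h3 : c g • g = (c g : K[X]) * g := rfl
  rw [h3, coeff_mul]
  refine sum_mem fun q hq => ?_
  exact h g hg _ _ (Finset.mem_antidiagonal.1 hq) _ (coeff_mem k Y (c g).2 _)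

include A in
/-- The filtration is good. -/
theorem exists_good (hY : Y.Finite)
    (hYA : ∀ a : A, IsIntegral (Algebra.adjoin k Y) (algebraMap A K a)) :
    ∃ e, ∀ m, e ≤ m → F k Y m ≤ P1 k Y ^ (m - e) * F k Y e := by
  obtain ⟨G, hG1, hG2⟩ := exists_gens k A hY hYA
  refine ⟨G.sup natDegree, fun m hm => hG2 _ _ fun g hg i l hil a ha => ?_⟩
  by_cases hl : l ≤ g.natDegree
  · have hle : l ≤ G.sup natDegree := hl.trans (Finset.le_sup hg)
    have hi : i = (m - G.sup natDegree) + (G.sup natDegree - l) := by omega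
    rw [hi, pow_add] at ha
    have h1 : a * g.coeff l ∈ P1 k Y ^ (m - G.sup natDegree) * P1 k Y ^ (G.sup natDegree - l) *
        F k Y l := Submodule.mul_mem_mul ha (hG1 g hg l)
    rw [mul_assoc] at h1
    have h5 : P1 k Y ^ (G.sup natDegree - l) * F k Y l ≤ F k Y (G.sup natDegree) :=
      calc _ ≤ F k Y (G.sup natDegree - l) * F k Y l := mul_le_mul' (P1_pow_le_F k Y _) le_rfl
        _ ≤ F k Y (G.sup natDegree - l + l) := F_mul_le k Y _ _
        _ = _ := by rw [Nat.sub_add_cancel hle]
    exact (mul_le_mul' le_rfl h5 : P1 k Y ^ (m - G.sup natDegree) * _ ≤ _) h1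
  · rw [coeff_eq_zero_of_natDegree_lt (not_le.1 hl), mul_zero]
    exact zero_mem _

include A in
/-- The steps of the filtration are finite dimensional. -/
theorem F_fg (hY : Y.Finite)
    (hYA : ∀ a : A, IsIntegral (Algebra.adjoin k Y) (algebraMap A K a)) (m : ℕ) :
    (F k Y m).FG := by
  obtain ⟨G, hG1, hG2⟩ := exists_gens k A hY hYA
  let V : Submodule k K := Submodule.span k (⋃ g ∈ G, ⋃ l ∈ Finset.range (m + 1), {g.coeff l})
  have hV : V.FG := by
    refine Submodule.fg_span ?_
    refine Set.Finite.biUnion G.finite_toSet fun g _ => ?_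
    exact Set.Finite.biUnion (Finset.range (m + 1)).finite_toSet fun _ _ => Set.finite_singleton _
  have hP : (P1 k Y).FG := Submodule.fg_span (hY.insert _)
  have hPV : (P1 k Y ^ m * V).FG := (hP.pow m).mul hV
  have hle : F k Y m ≤ P1 k Y ^ m * V := hG2 _ _ fun g hg i l hil a ha => by
    refine Submodule.mul_mem_mul (P1_pow_mono k Y (by omega) ha) (Submodule.subset_span ?_)
    exact Set.mem_biUnion hg (Set.mem_biUnion (Finset.mem_coe.2 (Finset.mem_range.2 (by omega)))
      rfl)
  have : IsNoetherian k (P1 k Y ^ m * V : Submodule k K) :=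
    isNoetherian_of_fg_of_noetherian _ hPV
  exact Submodule.FG.of_le_of_isNoetherian hle

end Finite

end Groth.Agent.An.H22.NormFilt
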